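import Mathlib
import Cfsg.Agent.ClassicalGeometry.HermOrtho
import Cfsg.Agent.ClassicalGeometry.PSUAutBasic
import Cfsg.Agent.KFacts.Unit.Emb
import Cfsg.Agent.S0144
import Cfsg.Agent.S0277
set_option linter.all false

/-!
# Elements of order three of `SU_n(2)`

`x ∈ SU_n(2)` with `x³ = 1` : the eigenspaces `E x a` (`a³ = 1`) are non-degenerate, pairwise orthogonal and span.
* `Nn x a` : the elements of `C(x)` acting trivially on the eigenspaces other than `E x a`; normal in `C(x)`;
* `solvable_quot` : `C(x) / Nn x a` is solvable if the other eigenspaces have dimension at most three;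
* `nn_equiv` : `Nn x a ≅ SU_m(2)`, `m = dim E x a`.
-/

set_option autoImplicit false
set_option linter.unusedSectionVars false

namespace Cfsg.Agent.LThreeU7

open Cfsg Cfsg.Agent.LieClassical.HermBasic Cfsg.Agent.LieClassical.HermSiegel
  Cfsg.Agent.LieClassical.HermGen Cfsg.Agent.ClassicalGeometry.HermOrtho Matrix Module

variable {F : Type*} [Field F] [Fintype F] {q n k : ℕ}

/-! ### The action on an invariant non-degenerate subspace -/

/-- the matrix of the action on the span of the orthonormal vectors `b` -/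
def rhoM (b : Fin k → (Fin n → F)) (g : SU n F q) : Matrix (Fin k) (Fin k) F :=
  Matrix.of fun i j => hermForm n F q (act g (b j)) (b i)

theorem rhoM_apply (b : Fin k → (Fin n → F)) (g : SU n F q) (i j : Fin k) :
    rhoM b g i j = hermForm n F q (act g (b j)) (b i) := rfl

section rho

variable (hF : Fintype.card F = q ^ 2) (W : Submodule F (Fin n → F)) {b : Fin k → (Fin n → F)}
  (hk : finrank F W = Fintype.card (Fin k)) (hbW : ∀ i, b i ∈ W)
  (hb : ∀ i j, hermForm n F q (b i) (b j) = if i = j then 1 else 0)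

include hk hbW hb

theorem act_eq_sum {g : SU n F q} (hg : ∀ w ∈ W, act g w ∈ W) (j : Fin k) :
    act g (b j) = ∑ i, rhoM b g i j • b i := by
  exact eq_sum_of_orthonormal W hk hbW hb (hg _ (hbW j))

theorem act_comb {g : SU n F q} (hg : ∀ w ∈ W, act g w ∈ W) (u : Fin k → F) :
    act g (∑ i, u i • b i) = ∑ i, (rhoM b g *ᵥ u) i • b i := by
  rw [act_sum]
  simp only [act_smul, mulVec, dotProduct, Finset.sum_smul]
  rw [Finset.sum_comm]
  refine Finset.sum_congr rfl fun j _ => ?_
  rw [act_eq_sum W hk hbW hb hg, Finset.smul_sum]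
  refine Finset.sum_congr rfl fun i _ => ?_
  rw [smul_smul, mul_comm]

theorem rhoM_mul {g h : SU n F q} (hg : ∀ w ∈ W, act g w ∈ W) (hh : ∀ w ∈ W, act h w ∈ W) :
    rhoM b (g * h) = rhoM b g * rhoM b h := by
  ext i j
  rw [rhoM_apply, act_mul, act_eq_sum W hk hbW hb hh, act_comb W hk hbW hb hg, herm_sum_smul_left hb, mul_apply]
  rfl

omit hk hbW in
theorem rhoM_one : rhoM b (1 : SU n F q) = 1 := by
  ext i j
  rw [rhoM_apply, act_one, hb, Matrix.one_apply]
  simp only [eq_comm]

include hF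

omit hk hbW in
theorem herm_comb (u v : Fin k → F) :
    hermForm n F q (∑ i, u i • b i) (∑ i, v i • b i) = hermForm k F q u v := by
  rw [herm_sum_right hF]
  simp only [herm_smul_right, herm_sum_smul_left hb]
  rw [herm_def]
  exact Finset.sum_congr rfl fun j _ => mul_comm _ _

theorem rhoM_herm {g : SU n F q} (hg : ∀ w ∈ W, act g w ∈ W) (u v : Fin k → F) :
    hermForm k F q (rhoM b g *ᵥ u) (rhoM b g *ᵥ v) = hermForm k F q u v := by
  rw [← herm_comb hF hb, ← herm_comb hF hb u v, ← act_comb W hk hbW hb hg, ← act_comb W hk hbW hb hg, herm_act]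

end rho

/-- **The action on an invariant non-degenerate subspace** of dimension `k` as a homomorphism into `GU_k`. -/
theorem exists_rho (hF : Fintype.card F = q ^ 2) (W : Submodule F (Fin n → F))
    (hW : ∀ u ∈ W, (∀ v ∈ W, hermForm n F q u v = 0) → u = 0) (hk : finrank F W = k)
    (C : Subgroup (SU n F q)) (hC : ∀ c ∈ C, ∀ w ∈ W, act c w ∈ W) :
    ∃ ρ : ↥C →* GU k F q, ∀ c, ρ c = 1 → ∀ w ∈ W, act (c : SU n F q) w = w := by
  obtain ⟨b, hbW, hb⟩ := exists_orthonormal hF W hW hk
  have hk' : finrank F W = Fintype.card (Fin k) := by rw [hk, Fintype.card_fin]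
  let f : ↥C →* Matrix (Fin k) (Fin k) F :=
    { toFun := fun c => rhoM b (c : SU n F q)
      map_one' := rhoM_one hb
      map_mul' := fun c d => rhoM_mul W hk' hbW hb (hC c c.2) (hC d d.2) }
  have hmem : ∀ c : ↥C, f.toHomUnits c ∈ GU k F q := by
    intro c
    exact rhoM_herm hF W hk' hbW hb (hC c c.2)
  refine ⟨f.toHomUnits.codRestrict (GU k F q) hmem, fun c hc w hw => ?_⟩
  have h1 : rhoM b (c : SU n F q) = 1 := by
    have h2 := congrArg (fun g : GU k F q => ((g : Matrix.GeneralLinearGroup (Fin k) F) : Matrix (Fin k) (Fin k) F)) hc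
    exact h2
  rw [eq_sum_of_orthonormal W hk' hbW hb hw, act_comb W hk' hbW hb (hC c c.2), h1, one_mulVec]

/-! ### `GU_k(2)`, `k ≤ 3`, is solvable -/

theorem solvable_GU (hF : Fintype.card F = 2 ^ 2) (hk : k ≤ 3) : Group.IsSolvable (GU k F 2) := by
  have h := Cfsg.Agent.S0277.result hF k
  obtain rfl | rfl | rfl | rfl : k = 0 ∨ k = 1 ∨ k = 2 ∨ k = 3 := by omega
  · exact Cfsg.Agent.S0144.result 2 3 0 0 Nat.prime_two Nat.prime_three (by rw [h]; simp)
  · exact Cfsg.Agent.S0144.result 2 3 0 1 Nat.prime_two Nat.prime_three (by rw [h]; simp)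
  · exact Cfsg.Agent.S0144.result 2 3 1 2 Nat.prime_two Nat.prime_three (by
      rw [h]; simp [Finset.prod_range_succ])
  · exact Cfsg.Agent.S0144.result 2 3 3 4 Nat.prime_two Nat.prime_three (by
      rw [h]
      simp [Finset.prod_range_succ])

/-- A term of the derived series acts trivially on an invariant non-degenerate subspace of dimension at most three. -/
theorem exists_derived_trivial (hF : Fintype.card F = 2 ^ 2) (W : Submodule F (Fin n → F))
    (hW : ∀ u ∈ W, (∀ v ∈ W, hermForm n F 2 u v = 0) → u = 0) (hk : finrank F W ≤ 3)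
    (C : Subgroup (SU n F 2)) (hC : ∀ c ∈ C, ∀ w ∈ W, act c w ∈ W) :
    ∃ m : ℕ, ∀ c ∈ derivedSeries ↥C m, ∀ w ∈ W, act (c : SU n F 2) w = w := by
  obtain ⟨ρ, hρ⟩ := exists_rho hF W hW rfl C hC
  have hs := solvable_GU (F := F) hF hk
  obtain ⟨m, hm⟩ := hs.solvable
  refine ⟨m, fun c hc w hw => hρ c ?_ w hw⟩
  have h1 := map_derivedSeries_le_derivedSeries ρ m (Subgroup.mem_map_of_mem ρ hc)
  rw [hm] at h1
  exact Subgroup.mem_bot.1 h1

/-! ### Eigenspaces of an element of order three -/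

section Eig

variable (hF : Fintype.card F = 2 ^ 2)

include hF in
theorem two_eq_zero : (2 : F) = 0 := by
  have h1 : ((4 : ℕ) : F) = 0 := by
    have := FiniteField.cast_card_eq_zero F
    rwa [hF] at this
  have h2 : (2 : F) * 2 = 0 := by
    rw [← h1]; norm_num
  exact mul_self_eq_zero.1 h2

include hF in
theorem cube_of_ne {a : F} (ha : a ≠ 0) : a ^ 3 = 1 := by
  have := FiniteField.pow_card_sub_one_eq_one a ha
  rwa [hF] at this

theorem ne_zero_of_cube {a : F} (ha : a ^ 3 = 1) : a ≠ 0 := by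
  rintro rfl
  rw [zero_pow (by norm_num)] at ha
  exact zero_ne_one ha

include hF in
theorem exists_omega : ∃ w : F, w ^ 3 = 1 ∧ w ≠ 1 ∧ w ^ 2 + w + 1 = 0 := by
  classical
  obtain ⟨w, hw⟩ : ∃ w : F, w ∉ ({0, 1} : Finset F) := by
    by_contra hcon
    push Not at hcon
    have h1 : Fintype.card F ≤ ({0, 1} : Finset F).card :=
      Finset.card_le_card (fun x _ => hcon x)
    have h2 : ({0, 1} : Finset F).card ≤ 2 := Finset.card_le_two
    rw [hF] at h1
    omega
  rw [Finset.mem_insert, Finset.mem_singleton, not_or] at hw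
  have h3 := cube_of_ne hF hw.1
  refine ⟨w, h3, hw.2, ?_⟩
  have h4 : (w - 1) * (w ^ 2 + w + 1) = 0 := by linear_combination h3
  rcases mul_eq_zero.1 h4 with h | h
  · exact absurd (sub_eq_zero.1 h) hw.2
  · exact h

/-- the eigenspace -/
def E (x : SU n F 2) (a : F) : Submodule F (Fin n → F) where
  carrier := {v | act x v = a • v}
  add_mem' {u v} hu hv := by
    change act x (u + v) = a • (u + v)
    rw [act_add, smul_add]
    exact congrArg₂ _ hu hv
  zero_mem' := by
    change act x 0 = a • 0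
    rw [act_zero, smul_zero]
  smul_mem' c v hv := by
    change act x (c • v) = a • (c • v)
    rw [act_smul, smul_comm]
    exact congrArg _ hv

theorem mem_E {x : SU n F 2} {a : F} {v : Fin n → F} : v ∈ E x a ↔ act x v = a • v := Iff.rfl

/-- the projection to the eigenspace -/
def pj (x : SU n F 2) (a : F) (v : Fin n → F) : Fin n → F := v + a ^ 2 • act x v + a • act x (act x v)

theorem act_cube {x : SU n F 2} (hx : x ^ 3 = 1) (v : Fin n → F) : act x (act x (act x v)) = v := by
  rw [← act_mul, ← act_mul, ← pow_two, ← pow_succ, hx, act_one]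

theorem pj_mem {x : SU n F 2} (hx : x ^ 3 = 1) {a : F} (ha : a ^ 3 = 1) (v : Fin n → F) : pj x a v ∈ E x a := by
  rw [mem_E, pj, act_add, act_add, act_smul, act_smul, act_cube hx, smul_add, smul_add, smul_smul, smul_smul,
    ← pow_succ', ha, one_smul, ← pow_two]
  abel

include hF in
theorem pj_sum {x : SU n F 2} {w : F} (hw : w ^ 3 = 1) (hw1 : w ^ 2 + w + 1 = 0) (v : Fin n → F) :
    pj x 1 v + pj x w v + pj x (w ^ 2) v = v := by
  have h2 := two_eq_zero hF
  have e1 : pj x 1 v + pj x w v + pj x (w ^ 2) v = (3 : F) • v + (1 + w ^ 2 + (w ^ 2) ^ 2) • act x v +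
      (1 + w + w ^ 2) • act x (act x v) := by
    rw [pj, pj, pj]
    module
  have e2 : (3 : F) = 1 := by linear_combination h2
  have e3 : 1 + w ^ 2 + (w ^ 2) ^ 2 = 0 := by linear_combination w * hw + hw1
  have e4 : 1 + w + w ^ 2 = 0 := by linear_combination hw1
  rw [e1, e2, e3, e4, one_smul, zero_smul, zero_smul, add_zero, add_zero]

include hF in
/-- the eigenspaces span -/
theorem exists_decomp {x : SU n F 2} (hx : x ^ 3 = 1) (v : Fin n → F) :
    ∃ w : F, w ^ 3 = 1 ∧ w ≠ 1 ∧ ∃ v1 ∈ E x 1, ∃ v2 ∈ E x w, ∃ v3 ∈ E x (w ^ 2), v = v1 + v2 + v3 := by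
  obtain ⟨w, hw, hw1, hw2⟩ := exists_omega hF
  have hww : (w ^ 2) ^ 3 = 1 := by rw [← pow_mul, mul_comm, pow_mul, hw, one_pow]
  exact ⟨w, hw, hw1, pj x 1 v, pj_mem hx (one_pow 3) v, pj x w v, pj_mem hx hw v, pj x (w ^ 2) v, pj_mem hx hww v,
    (pj_sum hF hw hw2 v).symm⟩

include hF in
/-- induction over the eigenspaces -/
theorem eig_induction {x : SU n F 2} (hx : x ^ 3 = 1) {P : (Fin n → F) → Prop}
    (hadd : ∀ u v, P u → P v → P (u + v)) (h : ∀ a : F, a ^ 3 = 1 → ∀ v ∈ E x a, P v) (v : Fin n → F) : P v := by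
  obtain ⟨w, hw, -, v1, h1, v2, h2, v3, h3, rfl⟩ := exists_decomp hF hx v
  have hww : (w ^ 2) ^ 3 = 1 := by rw [← pow_mul, mul_comm, pow_mul, hw, one_pow]
  exact hadd _ _ (hadd _ _ (h 1 (one_pow 3) _ h1) (h w hw _ h2)) (h _ hww _ h3)

theorem orth {x : SU n F 2} {a b : F} (hb3 : b ^ 3 = 1) (hab : a ≠ b) {u v : Fin n → F}
    (hu : u ∈ E x a) (hv : v ∈ E x b) : hermForm n F 2 u v = 0 := by
  rw [mem_E] at hu hv
  have h1 := herm_act x u v
  rw [hu, hv, herm_smul_left, herm_smul_right] at h1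
  have h2 : (a * b ^ 2 - 1) * hermForm n F 2 u v = 0 := by linear_combination h1
  rcases mul_eq_zero.1 h2 with h3 | h3
  · exfalso
    apply hab
    have h4 : a * b ^ 2 = 1 := by linear_combination h3
    calc a = a * b ^ 3 := by rw [hb3, mul_one]
      _ = (a * b ^ 2) * b := by ring
      _ = b := by rw [h4, one_mul]
  · exact h3

include hF in
theorem nondeg {x : SU n F 2} (hx : x ^ 3 = 1) {a : F} :
    ∀ u ∈ E x a, (∀ v ∈ E x a, hermForm n F 2 u v = 0) → u = 0 := by
  intro u hu h
  refine herm_nondeg hF fun v => ?_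
  refine eig_induction hF hx (P := fun v => hermForm n F 2 u v = 0) (fun v w h1 h2 => ?_) (fun b hb v hv => ?_) v
  · rw [herm_add_right hF, h1, h2, add_zero]
  · by_cases hab : a = b
    · subst hab
      exact h v hv
    · exact orth hb hab hu hv

include hF in
theorem finrank_le {x : SU n F 2} (hx : x ^ 3 = 1) {a b : F} (ha : a ^ 3 = 1) (hab : a ≠ b) :
    finrank F (E x a) + finrank F (E x b) ≤ n := by
  have h1 := finrank_hermPerp_of_nondeg hF (E x a) (nondeg hF hx)
  have h2 : E x b ≤ (hermPerp 2 (E x a : Set (Fin n → F)) : Submodule F (Fin n → F)) := by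
    intro v hv u hu
    exact orth ha hab.symm hv hu
  have h3 := Submodule.finrank_mono h2
  omega

/-! ### The subgroup `Nn x a` -/

/-- The elements of `C(x)` acting trivially on the eigenspaces other than `E x a`. -/
def Nn (x : SU n F 2) (a : F) : Subgroup ↥(Subgroup.centralizer ({x} : Set (SU n F 2))) where
  carrier := {c | ∀ b : F, b ^ 3 = 1 → b ≠ a → ∀ v ∈ E x b, act (c : SU n F 2) v = v}
  one_mem' := fun _ _ _ v _ => act_one v
  mul_mem' := fun {c d} hc hd b hb hba v hv => by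
    rw [Subgroup.coe_mul, act_mul, hd b hb hba v hv, hc b hb hba v hv]
  inv_mem' := fun {c} hc b hb hba v hv => by
    have h1 := hc b hb hba v hv
    rw [act_eq_iff] at h1
    rw [Subgroup.coe_inv]
    exact h1.symm

theorem mem_Nn {x : SU n F 2} {a : F} {c : ↥(Subgroup.centralizer ({x} : Set (SU n F 2)))} :
    c ∈ Nn x a ↔ ∀ b : F, b ^ 3 = 1 → b ≠ a → ∀ v ∈ E x b, act (c : SU n F 2) v = v := Iff.rfl

/-- `C(x)` preserves the eigenspaces -/
theorem cent_E {x : SU n F 2} {a : F} {c : SU n F 2} (hc : c ∈ Subgroup.centralizer ({x} : Set (SU n F 2)))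
    {v : Fin n → F} (hv : v ∈ E x a) : act c v ∈ E x a := by
  rw [Subgroup.mem_centralizer_singleton_iff] at hc
  rw [mem_E] at hv ⊢
  rw [← act_mul, ← hc, act_mul, hv, act_smul]

instance nn_normal (x : SU n F 2) (a : F) : (Nn x a).Normal := by
  refine ⟨fun c hc g b hb hba v hv => ?_⟩
  have h1 : act ((g⁻¹ : ↥(Subgroup.centralizer ({x} : Set (SU n F 2)))) : SU n F 2) v ∈ E x b := cent_E (g⁻¹).2 hv
  rw [Subgroup.coe_mul, Subgroup.coe_mul, act_mul, act_mul, hc b hb hba _ h1, Subgroup.coe_inv, act_act_inv]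

include hF in
/-- **`C(x) / Nn x a` is solvable** if the other eigenspaces have dimension at most three. -/
theorem solvable_quot {x : SU n F 2} (hx : x ^ 3 = 1) {a : F}
    (h3 : ∀ b : F, b ^ 3 = 1 → b ≠ a → finrank F (E x b) ≤ 3) :
    Group.IsSolvable (↥(Subgroup.centralizer ({x} : Set (SU n F 2))) ⧸ Nn x a) := by
  have h1 : ∀ b : F, ∃ m : ℕ, b ^ 3 = 1 → b ≠ a → ∀ c ∈ derivedSeries ↥(Subgroup.centralizer ({x} : Set (SU n F 2))) m,
      ∀ v ∈ E x b, act (c : SU n F 2) v = v := by
    intro b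
    by_cases hb : b ^ 3 = 1 ∧ b ≠ a
    · obtain ⟨m, hm⟩ := exists_derived_trivial hF (E x b) (nondeg hF hx) (h3 b hb.1 hb.2)
        (Subgroup.centralizer ({x} : Set (SU n F 2))) (fun c hc w hw => cent_E hc hw)
      exact ⟨m, fun _ _ => hm⟩
    · exact ⟨0, fun h4 h5 => absurd ⟨h4, h5⟩ hb⟩
  choose m hm using h1
  let M : ℕ := Finset.univ.sup m
  refine (Group.isSolvable_def _).2 ⟨M, ?_⟩
  rw [← map_derivedSeries_eq (QuotientGroup.mk'_surjective (Nn x a)), Subgroup.map_eq_bot_iff, QuotientGroup.ker_mk']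
  intro c hc b hb hba v hv
  refine hm b hb hba c ?_ v hv
  exact derivedSeries_antitone _ (Finset.le_sup (Finset.mem_univ b)) hc

/-! ### `Nn x a ≅ SU_m(2)` -/

include hF in
/-- the diagonal element `diag(c, 1, …, 1)` of `GU` -/
theorem exists_diag_GU {m d : ℕ} (hm : 0 < m) {c : F} (hc : c * c ^ 2 = 1) :
    ∃ D : Matrix (Fin (m + d)) (Fin (m + d)) F, D.det = c ∧
      (∀ u v, hermForm (m + d) F 2 (D *ᵥ u) (D *ᵥ v) = hermForm (m + d) F 2 u v) ∧
      ∀ (x : Fin (m + d) → F) (j : Fin d), (D *ᵥ x) (Fin.natAdd m j) = x (Fin.natAdd m j) := by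
  classical
  set i0 : Fin (m + d) := ⟨0, by omega⟩ with hi0
  refine ⟨Matrix.diagonal (Function.update (fun _ => (1 : F)) i0 c), ?_, ?_, ?_⟩
  · rw [Matrix.det_diagonal, Finset.prod_update_of_mem (Finset.mem_univ _), Finset.prod_const_one, mul_one]
  · intro u v
    rw [herm_def, herm_def]
    refine Finset.sum_congr rfl fun i _ => ?_
    rw [Matrix.mulVec_diagonal, Matrix.mulVec_diagonal]
    by_cases hi : i = i0
    · subst hi
      rw [Function.update_self]
      linear_combination (u i0 * v i0 ^ 2) * hc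
    · rw [Function.update_of_ne hi, one_mul, one_mul]
  · intro x j
    rw [Matrix.mulVec_diagonal, Function.update_of_ne, one_mul]
    intro h
    have := congrArg Fin.val h
    rw [Fin.val_natAdd] at this
    simp only [hi0] at this
    omega

include hF in
/-- An element of `SU` adapted to a non-degenerate subspace. -/
theorem exists_SU_adapted {m d : ℕ} (hm : 0 < m) (W : Submodule F (Fin (m + d) → F))
    (hW : ∀ u ∈ W, (∀ v ∈ W, hermForm (m + d) F 2 u v = 0) → u = 0) (hk : finrank F W = m) :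
    ∃ P : SU (m + d) F 2, ∀ x : Fin (m + d) → F, act P x ∈ W ↔ ∀ j : Fin d, x (Fin.natAdd m j) = 0 := by
  obtain ⟨P, hP, hPx⟩ := exists_GU_adapted hF (finSumFinEquiv : Fin m ⊕ Fin d ≃ Fin (m + d)) W hW hk
  set PM : Matrix (Fin (m + d)) (Fin (m + d)) F := ((P : Matrix.GeneralLinearGroup (Fin (m + d)) F) : Matrix (Fin (m + d)) (Fin (m + d)) F) with hPM
  have hPu : IsUnit PM := P.isUnit
  have hdet0 : PM.det ≠ 0 := by
    rw [Matrix.isUnit_iff_isUnit_det] at hPu
    exact hPu.ne_zero
  have hc3 : (PM.det)⁻¹ * ((PM.det)⁻¹) ^ 2 = 1 := by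
    rw [← pow_succ']
    exact cube_of_ne hF (inv_ne_zero hdet0)
  obtain ⟨D, hD1, hD2, hD3⟩ := exists_diag_GU (F := F) hF (d := d) hm hc3
  refine ⟨mkSU (PM * D) (by rw [det_mul, hD1, mul_inv_cancel₀ hdet0]) (fun u v => ?_), fun x => ?_⟩
  · rw [← mulVec_mulVec, ← mulVec_mulVec]
    have h1 := hP (D *ᵥ u) (D *ᵥ v)
    exact h1.trans (hD2 u v)
  · rw [act_def, mat_mkSU, ← mulVec_mulVec, hPx]
    simp only [finSumFinEquiv_apply_right, hD3]

include hF in
theorem finrank_pos_of {x : SU n F 2} {a : F} {v : Fin n → F} (hv : v ∈ E x a) (hv0 : v ≠ 0) :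
    0 < finrank F (E x a) := by
  have : Nontrivial ↥(E x a) := ⟨⟨⟨v, hv⟩, 0, fun h => hv0 (congrArg Subtype.val h)⟩⟩
  exact Module.finrank_pos

include hF in
/-- a vector orthogonal to `E x a` is fixed by `Nn x a` -/
theorem nn_fix {x : SU n F 2} (hx : x ^ 3 = 1) {a : F} {c : ↥(Subgroup.centralizer ({x} : Set (SU n F 2)))}
    (hc : c ∈ Nn x a) {v : Fin n → F} (hv : ∀ u ∈ E x a, hermForm n F 2 v u = 0) :
    act (c : SU n F 2) v = v := by
  obtain ⟨w, hw, hw1, v1, h1, v2, h2, v3, h3, rfl⟩ := exists_decomp hF hx v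
  have hww : (w ^ 2) ^ 3 = 1 := by rw [← pow_mul, mul_comm, pow_mul, hw, one_pow]
  have hw0 := ne_zero_of_cube hw
  have n1 : w ^ 2 ≠ 1 := by
    intro h
    apply hw1
    have : w ^ 3 = w ^ 2 * w := by ring
    rw [h, one_mul, hw] at this
    exact this.symm
  have n2 : w ≠ w ^ 2 := by
    intro h
    apply hw1
    have h5 : w * (w - 1) = 0 := by linear_combination -h
    rcases mul_eq_zero.1 h5 with h6 | h6
    · exact absurd h6 hw0
    · exact sub_eq_zero.1 h6
  -- the component in `E x a` vanishes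
  have key : ∀ (b : F) (y z t : Fin n → F), b ^ 3 = 1 → y ∈ E x b → z = y + t →
      (∀ u ∈ E x b, hermForm n F 2 t u = 0) → (b = a → ∀ u ∈ E x b, hermForm n F 2 z u = 0) →
      act (c : SU n F 2) y = y := by
    intro b y z t hb hy hz ht hzu
    by_cases hba : b = a
    · have h5 : y = 0 := by
        refine nondeg hF hx y hy fun u hu => ?_
        have h6 := hzu hba u hu
        rw [hz, herm_add_left, ht u hu, add_zero] at h6
        exact h6
      rw [h5, act_zero]
    · exact hc b hb hba y hy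
  have e1 : act (c : SU n F 2) v1 = v1 := by
    refine key 1 v1 (v1 + v2 + v3) (v2 + v3) (one_pow 3) h1 (by rw [add_assoc]) (fun u hu => ?_) (fun hba u hu => ?_)
    · rw [herm_add_left, orth (one_pow 3) hw1 h2 hu, orth (one_pow 3) n1 h3 hu, add_zero]
    · exact hv u (by rw [← hba]; exact hu)
  have e2 : act (c : SU n F 2) v2 = v2 := by
    refine key w v2 (v1 + v2 + v3) (v1 + v3) hw h2 (by abel) (fun u hu => ?_) (fun hba u hu => ?_)
    · rw [herm_add_left, orth hw hw1.symm h1 hu, orth hw n2.symm h3 hu, add_zero]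
    · exact hv u (by rw [← hba]; exact hu)
  have e3 : act (c : SU n F 2) v3 = v3 := by
    refine key (w ^ 2) v3 (v1 + v2 + v3) (v1 + v2) hww h3 (by abel) (fun u hu => ?_) (fun hba u hu => ?_)
    · rw [herm_add_left, orth hww n1.symm h1 hu, orth hww n2 h2 hu, add_zero]
    · exact hv u (by rw [← hba]; exact hu)
  rw [act_add, act_add, e1, e2, e3]

include hF in
/-- **`Nn x a ≅ SU_m(2)`**, `m = dim E x a > 0`. -/
theorem nn_equiv {m d : ℕ} {x : SU (m + d) F 2} (hx : x ^ 3 = 1) {a : F} (ha : a ^ 3 = 1) (hm : 0 < m)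
    (hk : finrank F (E x a) = m) : Nonempty (SU m F 2 ≃* ↥(Nn x a)) := by
  obtain ⟨P, hP⟩ := exists_SU_adapted hF hm (E x a) (nondeg hF hx) hk
  -- vectors
  have hperp : ∀ v : Fin (m + d) → F, (∀ u ∈ E x a, hermForm (m + d) F 2 v u = 0) ↔
      ∀ i : Fin m, act P⁻¹ v (Fin.castAdd d i) = 0 := by
    intro v
    constructor
    · intro h i
      have h1 : act P (Pi.single (Fin.castAdd d i) 1) ∈ E x a := by
        rw [hP]
        intro j
        apply Pi.single_eq_of_ne
        intro h2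
        have := congrArg Fin.val h2
        rw [Fin.val_castAdd, Fin.val_natAdd] at this
        omega
      have h2 := h _ h1
      have h3 := herm_act P (act P⁻¹ v) (Pi.single (Fin.castAdd d i) 1)
      rw [act_act_inv, h2, herm_single_right hF, one_pow, mul_one] at h3
      exact h3.symm
    · intro h u hu
      have h1 : ∀ j : Fin d, act P⁻¹ u (Fin.natAdd m j) = 0 := by
        rw [← hP, act_act_inv]
        exact hu
      have h2 := herm_act P⁻¹ v u
      rw [← h2, KFacts.Unit.herm_split]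
      rw [Finset.sum_eq_zero (fun j _ => by rw [h1 j, zero_pow two_ne_zero, mul_zero]), add_zero]
      have h3 : (fun j => act P⁻¹ v (Fin.castAdd d j)) = 0 := funext h
      rw [h3, herm_zero_left]
  -- the embedding
  let ψ : SU m F 2 →* SU (m + d) F 2 := (MulAut.conj P).toMonoidHom.comp (KFacts.Unit.emb d)
  have hψ : ∀ g v, act (ψ g) v = act P (act (KFacts.Unit.emb d g) (act P⁻¹ v)) := by
    intro g v
    change act (P * KFacts.Unit.emb d g * P⁻¹) v = _
    rw [act_mul, act_mul]
  have hψE : ∀ g, ∀ v ∈ E x a, act (ψ g) v ∈ E x a := by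
    intro g v hv
    rw [hψ, hP]
    intro j
    rw [KFacts.Unit.act_emb_n]
    have h1 : ∀ j : Fin d, act P⁻¹ v (Fin.natAdd m j) = 0 := by
      rw [← hP, act_act_inv]
      exact hv
    exact h1 j
  have hψfix : ∀ g, ∀ v, (∀ u ∈ E x a, hermForm (m + d) F 2 v u = 0) → act (ψ g) v = v := by
    intro g v hv
    rw [hψ, KFacts.Unit.emb_fix g ((hperp v).1 hv), act_act_inv]
  have hψfix' : ∀ g (b : F), b ^ 3 = 1 → b ≠ a → ∀ v ∈ E x b, act (ψ g) v = v := by
    intro g b hb hba v hv
    exact hψfix g v fun u hu => orth ha hba hv hu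
  have hψC : ∀ g, ψ g ∈ Subgroup.centralizer ({x} : Set (SU (m + d) F 2)) := by
    intro g
    rw [Subgroup.mem_centralizer_singleton_iff]
    apply ext_act
    intro v
    rw [act_mul, act_mul]
    refine eig_induction hF hx (P := fun v => act (ψ g) (act x v) = act x (act (ψ g) v)) (fun u v h1 h2 => ?_)
      (fun b hb v hv => ?_) v
    · rw [act_add, act_add, act_add, act_add, h1, h2]
    · by_cases hba : b = a
      · subst hba
        rw [mem_E.1 hv, act_smul, mem_E.1 (hψE g v hv)]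
      · rw [mem_E.1 hv, act_smul, hψfix' g b hb hba v hv, mem_E.1 hv]
  let Ψ : SU m F 2 →* ↥(Subgroup.centralizer ({x} : Set (SU (m + d) F 2))) := ψ.codRestrict _ hψC
  have hinj : Function.Injective Ψ := by
    intro g h hgh
    have h1 : ψ g = ψ h := congrArg Subtype.val hgh
    exact KFacts.Unit.emb_injective ((MulAut.conj P).injective h1)
  have hrange : Ψ.range = Nn x a := by
    ext c
    constructor
    · rintro ⟨g, rfl⟩ b hb hba v hv
      exact hψfix' g b hb hba v hv
    · intro hc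
      have h1 : P⁻¹ * (c : SU (m + d) F 2) * P ∈ (fixGrp m : Subgroup (SU (m + d) F 2)) := by
        intro i hi
        rw [act_mul, act_mul, nn_fix hF hx hc, act_inv_act]
        rw [hperp]
        intro j
        rw [act_inv_act]
        apply Pi.single_eq_of_ne
        rintro rfl
        rw [Fin.val_castAdd] at hi
        omega
      obtain ⟨g, hg⟩ := KFacts.Unit.exists_emb hF h1
      refine ⟨g, Subtype.ext ?_⟩
      change P * KFacts.Unit.emb d g * P⁻¹ = (c : SU (m + d) F 2)
      rw [hg]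
      group
  exact ⟨(MonoidHom.ofInjective hinj).trans (MulEquiv.subgroupCongr hrange)⟩

end Eig

end Cfsg.Agent.LThreeU7
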